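import Groth.Agent.UnitsProd.Algebra
import Groth.Agent.GrpSch.Irred
import Groth.Agent.GeomRed.Scheme
import Mathlib

/-!
# Units on a product of varieties
-/

set_option autoImplicit false

universe u

open CategoryTheory Limits MonoidalCategory CartesianMonoidalCategory AlgebraicGeometry TensorProduct

namespace Groth.Agent.UnitsProd

variable {k : Type u} [Field k] [IsAlgClosed k]

/-- an integral variety over an algebraically closed field is geometrically integral -/
theorem geometricallyIntegral_of_isAlgClosed {X : Scheme.{u}} [IsIntegral X]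
    (f : X ⟶ Spec (CommRingCat.of k)) [LocallyOfFiniteType f] : GeometricallyIntegral f := by
  haveI := GrpSch.Irred.geometricallyIrreducible_of_isAlgClosed f
  haveI := Groth.Agent.GeomRed.geometricallyReduced_of_perfectField f
  exact GeometricallyIntegral.of_geometricallyReduced_of_geometricallyIrreducible f

theorem isIntegral_tensor (X Y : Over (Spec (CommRingCat.of k))) [IsIntegral X.left]
    [LocallyOfFiniteType X.hom] [IsIntegral Y.left] [LocallyOfFiniteType Y.hom] :
    IsIntegral (X ⊗ Y).left := by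
  haveI := geometricallyIntegral_of_isAlgClosed Y.hom
  haveI : IsLocallyNoetherian X.left := LocallyOfFiniteType.isLocallyNoetherian X.hom
  exact inferInstanceAs (IsIntegral (pullback X.hom Y.hom))

/-- evaluation of global functions along an affine chart -/
noncomputable def ev {R : CommRingCat.{u}} {Z : Scheme.{u}} (p : Spec R ⟶ Z) : Γ(Z, ⊤) →+* R :=
  (p.appTop ≫ (Scheme.ΓSpecIso R).hom).hom

omit [IsAlgClosed k] in
lemma ev_comp {R : CommRingCat.{u}} {Y Z : Scheme.{u}} (p : Spec R ⟶ Y) (q : Y ⟶ Z) (f : Γ(Z, ⊤)) :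
    ev (p ≫ q) f = ev p (q.appTop f) := by
  simp [ev, Scheme.Hom.comp_appTop]

omit [IsAlgClosed k] in
lemma ev_map {R R' : CommRingCat.{u}} {Z : Scheme.{u}} (φ : R ⟶ R') (p : Spec R ⟶ Z) (f : Γ(Z, ⊤)) :
    ev (Spec.map φ ≫ p) f = φ (ev p f) := by
  change ((Spec.map φ ≫ p).appTop ≫ (Scheme.ΓSpecIso R').hom).hom f =
    ((p.appTop ≫ (Scheme.ΓSpecIso R).hom) ≫ φ).hom f
  rw [Scheme.Hom.comp_appTop, Category.assoc, Category.assoc, Scheme.ΓSpecIso_naturality]

omit [IsAlgClosed k] in
lemma ev_injective {R : CommRingCat.{u}} {Z : Scheme.{u}} [IsIntegral Z] (p : Spec R ⟶ Z)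
    [IsOpenImmersion p] [Nonempty (Spec R)] : Function.Injective (ev p) := by
  have h1 : Function.Injective p.appTop.hom := by
    have hne : Nonempty (p ''ᵁ ⊤ : Z.Opens) :=
      ⟨⟨p (Nonempty.some ‹_›), ⟨_, trivial, rfl⟩⟩⟩
    have := @map_injective_of_isIntegral Z _ (p ''ᵁ ⊤) ⊤ (homOfLE le_top) hne
    have h2 : p.appTop = Z.presheaf.map (homOfLE (le_top : p ''ᵁ (⊤ : (Spec R).Opens) ≤ ⊤)).op ≫ (p.appIso ⊤).hom := by
      rw [Scheme.Hom.appIso_hom', Scheme.Hom.map_appLE]
      exact (Scheme.Hom.appLE_eq_app p).symm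
    rw [h2, CommRingCat.hom_comp, RingHom.coe_comp]
    exact ((ConcreteCategory.bijective_of_isIso (p.appIso ⊤).hom).1).comp this
  simp only [ev, CommRingCat.hom_comp, RingHom.coe_comp]
  exact (ConcreteCategory.bijective_of_isIso (Scheme.ΓSpecIso R).hom).1.comp h1

variable (X : Over (Spec (CommRingCat.of k)))

/-- the algebra structure on sections over an affine open -/
noncomputable abbrev chartAlgebra {U : X.left.Opens} (hU : IsAffineOpen U) : Algebra k Γ(X.left, U) :=
  (Spec.preimage (hU.fromSpec ≫ X.hom)).hom.toAlgebra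

omit [IsAlgClosed k] in
lemma chartAlgebra_spec {U : X.left.Opens} (hU : IsAffineOpen U) :
    letI := chartAlgebra X hU
    Spec.map (CommRingCat.ofHom (algebraMap k Γ(X.left, U))) = hU.fromSpec ≫ X.hom :=
  Spec.map_preimage _

omit [IsAlgClosed k] in
lemma chartAlgebra_finiteType [LocallyOfFiniteType X.hom] {U : X.left.Opens} (hU : IsAffineOpen U) :
    letI := chartAlgebra X hU
    Algebra.FiniteType k Γ(X.left, U) := by
  letI := chartAlgebra X hU
  have h : LocallyOfFiniteType (Spec.map (CommRingCat.ofHom (algebraMap k Γ(X.left, U)))) := by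
    rw [chartAlgebra_spec X hU]; infer_instance
  rw [HasRingHomProperty.Spec_iff (P := @LocallyOfFiniteType)] at h
  exact RingHom.finiteType_algebraMap.mp h

theorem exists_affine [Nonempty X.left] : ∃ U : X.left.Opens, IsAffineOpen U ∧ Nonempty U := by
  obtain ⟨_, ⟨U, hU, rfl⟩, hxU, -⟩ := X.left.isBasis_affineOpens.exists_subset_of_mem_open
    (Set.mem_univ (Classical.arbitrary X.left)) isOpen_univ
  exact ⟨U, hU, ⟨⟨_, hxU⟩⟩⟩

theorem exists_unit_mul (Y : Over (Spec (CommRingCat.of k))) [IsIntegral X.left]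
    [LocallyOfFiniteType X.hom] [IsIntegral Y.left] [LocallyOfFiniteType Y.hom]
    (f : Γ((X ⊗ Y).left, ⊤)) (hf : IsUnit f) :
    ∃ (g : Γ(X.left, ⊤)) (h : Γ(Y.left, ⊤)), IsUnit g ∧ IsUnit h ∧
      f = (fst X Y).left.appTop g * (snd X Y).left.appTop h := by
  haveI := isIntegral_tensor X Y
  obtain ⟨U, hU, hUne⟩ := exists_affine X
  obtain ⟨W, hW, hWne⟩ := exists_affine Y
  letI := chartAlgebra X hU
  letI := chartAlgebra Y hW
  let B := Γ(X.left, U)
  let A := Γ(Y.left, W)
  haveI : Algebra.FiniteType k B := chartAlgebra_finiteType X hU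
  haveI : Algebra.FiniteType k A := chartAlgebra_finiteType Y hW
  obtain ⟨mB, hmB⟩ := Ideal.exists_maximal B
  obtain ⟨mA, hmA⟩ := Ideal.exists_maximal A
  obtain ⟨ψ₀, -⟩ := GeomConn.exists_algHom_of_isMaximal (k := k) mB
  obtain ⟨φ₀, -⟩ := GeomConn.exists_algHom_of_isMaximal (k := k) mA
  let inL : B →ₐ[k] B ⊗[k] A := Algebra.TensorProduct.includeLeft
  let inR : A →ₐ[k] B ⊗[k] A := Algebra.TensorProduct.includeRight
  have hb : Spec.map (CommRingCat.ofHom (algebraMap k B)) = hU.fromSpec ≫ X.hom := chartAlgebra_spec X hU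
  have ha : Spec.map (CommRingCat.ofHom (algebraMap k A)) = hW.fromSpec ≫ Y.hom := chartAlgebra_spec Y hW
  let j : Spec (CommRingCat.of (B ⊗[k] A)) ⟶ (X ⊗ Y).left :=
    pullback.lift (Spec.map (CommRingCat.ofHom inL.toRingHom) ≫ hU.fromSpec)
      (Spec.map (CommRingCat.ofHom inR.toRingHom) ≫ hW.fromSpec) (by
        rw [Category.assoc, Category.assoc, ← hb, ← ha, ← Spec.map_comp, ← Spec.map_comp]
        congr 1
        ext c
        exact ((inL.commutes c).trans (inR.commutes c).symm))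
  haveI : IsOpenImmersion j := by
    let m := pullback.map (Spec.map (CommRingCat.ofHom (algebraMap k B)))
      (Spec.map (CommRingCat.ofHom (algebraMap k A))) X.hom Y.hom hU.fromSpec hW.fromSpec (𝟙 _)
      (by rw [hb, Category.comp_id]) (by rw [ha, Category.comp_id])
    haveI : IsOpenImmersion m := inferInstanceAs (IsOpenImmersion (pullback.map ..))
    have : j = (pullbackSpecIso k B A).inv ≫ m := by
      apply pullback.hom_ext
      · rw [pullback.lift_fst, Category.assoc, pullback.lift_fst, pullbackSpecIso_inv_fst_assoc]; rfl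
      · rw [pullback.lift_snd, Category.assoc, pullback.lift_snd, pullbackSpecIso_inv_snd_assoc]; rfl
    rw [this]; infer_instance
  haveI : IsDomain (B ⊗[k] A) := GeomConn.isDomain_tensorProduct B A
  haveI : Nonempty (Spec (CommRingCat.of (B ⊗[k] A))) := inferInstanceAs (Nonempty (PrimeSpectrum _))
  let y₀ : 𝟙_ (Over (Spec (CommRingCat.of k))) ⟶ Y :=
    Over.homMk (Spec.map (CommRingCat.ofHom φ₀.toRingHom) ≫ hW.fromSpec) (by
      rw [Category.assoc, ← ha, ← Spec.map_comp]
      change Spec.map _ = 𝟙 _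
      rw [← Spec.map_id]
      congr 1
      ext c
      exact φ₀.commutes c)
  let x₀ : 𝟙_ (Over (Spec (CommRingCat.of k))) ⟶ X :=
    Over.homMk (Spec.map (CommRingCat.ofHom ψ₀.toRingHom) ≫ hU.fromSpec) (by
      rw [Category.assoc, ← hb, ← Spec.map_comp]
      change Spec.map _ = 𝟙 _
      rw [← Spec.map_id]
      congr 1
      ext c
      exact ψ₀.commutes c)
  let sX := (lift (𝟙 X) (toUnit X ≫ y₀)).left
  let sY := (lift (toUnit Y ≫ x₀) (𝟙 Y)).left
  have hsX : Spec.map (CommRingCat.ofHom (evR B A φ₀).toRingHom) ≫ j = hU.fromSpec ≫ sX := by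
    apply pullback.hom_ext
    · rw [Category.assoc, pullback.lift_fst, ← Category.assoc, ← Spec.map_comp]
      change _ = (hU.fromSpec ≫ (lift (𝟙 X) (toUnit X ≫ y₀)).left) ≫ (fst X Y).left
      rw [Category.assoc, ← Over.comp_left, lift_fst]
      change _ = hU.fromSpec ≫ 𝟙 _
      rw [Category.comp_id, show CommRingCat.ofHom inL.toRingHom ≫ CommRingCat.ofHom (evR B A φ₀).toRingHom = 𝟙 _ by
        ext b; simp [inL], Spec.map_id, Category.id_comp]
    · rw [Category.assoc, pullback.lift_snd, ← Category.assoc, ← Spec.map_comp]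
      change _ = (hU.fromSpec ≫ (lift (𝟙 X) (toUnit X ≫ y₀)).left) ≫ (snd X Y).left
      rw [Category.assoc, ← Over.comp_left, lift_snd, Over.comp_left, Over.toUnit_left]
      change _ = hU.fromSpec ≫ X.hom ≫ Spec.map _ ≫ hW.fromSpec
      rw [← Category.assoc hU.fromSpec, ← hb, ← Category.assoc (Spec.map _), ← Spec.map_comp]
      congr 2
      ext a
      simp [inR, Algebra.smul_def]
  let evL : B ⊗[k] A →ₐ[k] A :=
    (Algebra.TensorProduct.lid k A).toAlgHom.comp (Algebra.TensorProduct.map ψ₀ (AlgHom.id k A))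
  have hsY : Spec.map (CommRingCat.ofHom evL.toRingHom) ≫ j = hW.fromSpec ≫ sY := by
    apply pullback.hom_ext
    · rw [Category.assoc, pullback.lift_fst, ← Category.assoc, ← Spec.map_comp]
      change _ = (hW.fromSpec ≫ (lift (toUnit Y ≫ x₀) (𝟙 Y)).left) ≫ (fst X Y).left
      rw [Category.assoc, ← Over.comp_left, lift_fst, Over.comp_left, Over.toUnit_left]
      change _ = hW.fromSpec ≫ Y.hom ≫ Spec.map _ ≫ hU.fromSpec
      rw [← Category.assoc hW.fromSpec, ← ha, ← Category.assoc (Spec.map _), ← Spec.map_comp]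
      congr 2
      ext b
      simp [inL, evL, Algebra.smul_def]
    · rw [Category.assoc, pullback.lift_snd, ← Category.assoc, ← Spec.map_comp]
      change _ = (hW.fromSpec ≫ (lift (toUnit Y ≫ x₀) (𝟙 Y)).left) ≫ (snd X Y).left
      rw [Category.assoc, ← Over.comp_left, lift_snd]
      change _ = hW.fromSpec ≫ 𝟙 _
      rw [Category.comp_id, show CommRingCat.ofHom inR.toRingHom ≫ CommRingCat.ofHom evL.toRingHom = 𝟙 _ by
        ext b; simp [inR, evL], Spec.map_id, Category.id_comp]
  have hkY : Spec.map (CommRingCat.ofHom (algebraMap k A)) = hW.fromSpec ≫ Y.hom := ha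
  let c : k := ψ₀ (evR B A φ₀ (ev j f))
  have hfu : IsUnit (ev j f) := hf.map (ev j)
  have hc : c ≠ 0 := ((hfu.map (evR B A φ₀)).map ψ₀).ne_zero
  let cst : Γ(Y.left, ⊤) := Y.hom.appTop ((Scheme.ΓSpecIso (CommRingCat.of k)).inv c⁻¹)
  refine ⟨sX.appTop f, cst * sY.appTop f, hf.map sX.appTop.hom, ?_, ev_injective j ?_⟩
  · exact (((IsUnit.mk0 _ (inv_ne_zero hc)).map (Scheme.ΓSpecIso (CommRingCat.of k)).inv.hom).map
      Y.hom.appTop.hom).mul (hf.map sY.appTop.hom)
  have e1 : ∀ g : Γ(X.left, ⊤), ev j ((fst X Y).left.appTop g) = inL (ev hU.fromSpec g) := fun g => by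
    rw [← ev_comp, show j ≫ (fst X Y).left = Spec.map (CommRingCat.ofHom inL.toRingHom) ≫ hU.fromSpec
      from pullback.lift_fst _ _ _, ev_map]
    rfl
  have e2 : ∀ g : Γ(Y.left, ⊤), ev j ((snd X Y).left.appTop g) = inR (ev hW.fromSpec g) := fun g => by
    rw [← ev_comp, show j ≫ (snd X Y).left = Spec.map (CommRingCat.ofHom inR.toRingHom) ≫ hW.fromSpec
      from pullback.lift_snd _ _ _, ev_map]
    rfl
  have e3 : ev hU.fromSpec (sX.appTop f) = evR B A φ₀ (ev j f) := by
    rw [← ev_comp, ← hsX, ev_map]; rfl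
  have e4 : ev hW.fromSpec (sY.appTop f) = evL (ev j f) := by
    rw [← ev_comp, ← hsY, ev_map]; rfl
  have e5 : ev hW.fromSpec cst = algebraMap k A c⁻¹ := by
    rw [← ev_comp, ← hkY]
    change ((Spec.map _).appTop ≫ _).hom ((Scheme.ΓSpecIso (CommRingCat.of k)).inv c⁻¹) = _
    rw [Scheme.ΓSpecIso_naturality, CommRingCat.hom_comp, RingHom.comp_apply]
    exact congrArg (algebraMap k A) ((Scheme.ΓSpecIso (CommRingCat.of k)).commRingCatIsoToRingEquiv.apply_symm_apply c⁻¹)
  rw [map_mul, e1, e2, map_mul, e3, e4, e5, map_mul, AlgHom.commutes,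
    ← Algebra.smul_def, mul_smul_comm]
  have key := eq_mul_slices B A (ev j f) hfu φ₀ ψ₀
  rw [show inL (evR B A φ₀ (ev j f)) * inR (evL (ev j f)) = c • ev j f from key.symm,
    inv_smul_smul₀ hc]

end Groth.Agent.UnitsProd
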