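import Groth.Agent.UnitsProd.Scheme
import Groth.Agent.UnitsFG.Core

/-!
# Units modulo constants form a free group of finite rank
-/

set_option autoImplicit false

universe u

open CategoryTheory Limits AlgebraicGeometry

namespace Groth.Agent.UnitsProd

variable {k : Type u} [Field k] [IsAlgClosed k]

theorem exists_free (X : Over (Spec (CommRingCat.of k))) [IsIntegral X.left]
    [LocallyOfFiniteType X.hom] :
    ∃ (n : ℕ) (v : (Γ(X.left, ⊤))ˣ →* Multiplicative (Fin n → ℤ)), Function.Surjective v ∧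
      v.ker = (Units.map (((Scheme.ΓSpecIso (CommRingCat.of k)).inv ≫ X.hom.appTop).hom : k →* Γ(X.left, ⊤))).range := by
  obtain ⟨U, hU, hUne⟩ := exists_affine X
  letI := chartAlgebra X hU
  haveI : Algebra.FiniteType k Γ(X.left, U) := chartAlgebra_finiteType X hU
  haveI : Nonempty (Spec Γ(X.left, U)) := inferInstanceAs (Nonempty (PrimeSpectrum Γ(X.left, U)))
  let r := ev hU.fromSpec
  have hr : Function.Injective r := ev_injective hU.fromSpec
  let cst := ((Scheme.ΓSpecIso (CommRingCat.of k)).inv ≫ X.hom.appTop).hom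
  have hcst : ∀ c : k, r (cst c) = algebraMap k Γ(X.left, U) c := fun c => by
    simp only [r, cst, CommRingCat.hom_comp, RingHom.comp_apply]
    rw [← ev_comp, ← chartAlgebra_spec X hU]
    change ((Spec.map _).appTop ≫ _).hom ((Scheme.ΓSpecIso (CommRingCat.of k)).inv c) = _
    rw [Scheme.ΓSpecIso_naturality, CommRingCat.hom_comp, RingHom.comp_apply]
    exact congrArg (algebraMap k Γ(X.left, U))
      ((Scheme.ΓSpecIso (CommRingCat.of k)).commRingCatIsoToRingEquiv.apply_symm_apply c)
  obtain ⟨n, Φ, hΦ⟩ := Groth.Agent.UnitsFG.exists_hom_isAlgebraic k Γ(X.left, U)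
  let Ψ : (Γ(X.left, ⊤))ˣ →* Multiplicative (Fin n → ℤ) := Φ.comp (Units.map r.toMonoidHom)
  let ψ : Additive (Γ(X.left, ⊤))ˣ →+ (Fin n → ℤ) := MonoidHom.toAdditiveLeft Ψ
  let R : Submodule ℤ (Fin n → ℤ) := ψ.range.toIntSubmodule
  obtain ⟨m, b⟩ := R.basisOfPid (Pi.basisFun ℤ (Fin n))
  let e : R ≃ₗ[ℤ] (Fin m → ℤ) := b.equivFun
  let ψ' : Additive (Γ(X.left, ⊤))ˣ →+ (Fin m → ℤ) :=
    e.toAddEquiv.toAddMonoidHom.comp (ψ.codRestrict R.toAddSubgroup fun x => ⟨x, rfl⟩)
  refine ⟨m, AddMonoidHom.toMultiplicativeRight ψ', fun y => ?_, ?_⟩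
  · obtain ⟨x, hx⟩ := (e.symm (Multiplicative.toAdd y)).2
    refine ⟨Additive.toMul x, ?_⟩
    apply Multiplicative.toAdd.injective
    change e _ = _
    rw [← LinearEquiv.eq_symm_apply]
    exact Subtype.ext hx
  · ext x
    constructor
    · intro hx
      have h1 : ψ' (Additive.ofMul x) = 0 := congrArg Multiplicative.toAdd (MonoidHom.mem_ker.mp hx)
      have h2 : Φ (Units.map r.toMonoidHom x) = 1 := by
        apply Multiplicative.toAdd.injective
        exact congrArg Subtype.val (e.map_eq_zero_iff.mp h1)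
      have hint := hΦ _ h2
      haveI : Algebra.IsIntegral k (Algebra.adjoin k {r (x : Γ(X.left, ⊤))}) :=
        Algebra.IsIntegral.adjoin fun z hz => by rw [Set.mem_singleton_iff.mp hz]; exact hint
      obtain ⟨c, hc⟩ := (IsAlgClosed.algebraMap_bijective_of_isIntegral
        (k := k) (K := Algebra.adjoin k {r (x : Γ(X.left, ⊤))})).2 ⟨_, Algebra.subset_adjoin rfl⟩
      have hcx : cst c = x := hr ((hcst c).trans (congrArg Subtype.val hc))
      have hc0 : c ≠ 0 := by
        rintro rfl
        rw [map_zero] at hcx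
        haveI : Nontrivial Γ(X.left, ⊤) := r.domain_nontrivial
        exact x.ne_zero hcx.symm
      exact ⟨Units.mk0 c hc0, Units.ext hcx⟩
    · rintro ⟨c, rfl⟩
      rw [MonoidHom.mem_ker]
      apply Multiplicative.toAdd.injective
      change e _ = 0
      rw [e.map_eq_zero_iff]
      apply Subtype.ext
      change Multiplicative.toAdd (Φ (Units.map r.toMonoidHom (Units.map (cst : k →* _) c))) = 0
      have : Units.map r.toMonoidHom (Units.map (cst : k →* _) c) =
          Units.map (algebraMap k Γ(X.left, U)).toMonoidHom c := Units.ext (hcst c)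
      rw [this]
      ext i
      set χ : kˣ →* Multiplicative (Fin n → ℤ) := Φ.comp (Units.map (algebraMap k Γ(X.left, U)).toMonoidHom)
      change Multiplicative.toAdd (χ c) i = 0
      set N := (Multiplicative.toAdd (χ c) i).natAbs + 1 with hN
      obtain ⟨d, hd⟩ := IsAlgClosed.exists_pow_nat_eq (c : k) (Nat.succ_pos _ : 0 < N)
      have hd0 : d ≠ 0 := by
        rintro rfl
        rw [zero_pow (by omega : N ≠ 0)] at hd
        exact c.ne_zero hd.symm
      have hc : c = Units.mk0 d hd0 ^ N := Units.ext hd.symm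
      have h1 : Multiplicative.toAdd (χ c) i = N • Multiplicative.toAdd (χ (Units.mk0 d hd0)) i := by
        conv_lhs => rw [hc, map_pow, toAdd_pow]
        rfl
      by_contra hne
      have h2 := congrArg Int.natAbs h1
      rw [nsmul_eq_mul, Int.natAbs_mul, Int.natAbs_natCast] at h2
      rcases Nat.eq_zero_or_pos (Multiplicative.toAdd (χ (Units.mk0 d hd0)) i).natAbs with h3 | h3
      · rw [h3, mul_zero, Int.natAbs_eq_zero] at h2; exact hne h2
      · have := Nat.le_mul_of_pos_right N h3
        omega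

end Groth.Agent.UnitsProd
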