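import Groth.Agent.UnitsProd.Scheme
import Groth.Agent.GrpSch.Neutral
import Groth.Agent.GrpSch.SepPoints
import Groth.Agent.GrpSch.SmoothRed
import Groth.Agent.GrpSch.Points
import Groth.Prelude.Def_AlgGrp

/-!
# Units on connected algebraic groups are characters
-/

set_option autoImplicit false

universe u

open CategoryTheory Limits MonoidalCategory CartesianMonoidalCategory MonObj GrpObj AlgebraicGeometry

namespace Groth.Agent.UnitsProd

variable {k : Type u} [Field k] [IsAlgClosed k]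

omit [IsAlgClosed k] in
/-- pullback of functions respects composition -/
lemma pull_comp {A B C : Over (Spec (CommRingCat.of k))} (f : A ⟶ B) (g : B ⟶ C) (x : Γ(C.left, ⊤)) :
    f.left.appTop (g.left.appTop x) = (f ≫ g).left.appTop x := by
  rw [Over.comp_left, Scheme.Hom.comp_appTop]; rfl

omit [IsAlgClosed k] in
lemma pull_id {A : Over (Spec (CommRingCat.of k))} (x : Γ(A.left, ⊤)) :
    (𝟙 A : A ⟶ A).left.appTop x = x := by simp

theorem isIntegral_grp (G : Over (Spec (CommRingCat.of k))) [GrpObj G] [Smooth G.hom]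
    [ConnectedSpace ↥G.left] : IsIntegral G.left := by
  haveI := Groth.Agent.GrpSch.irreducibleSpace_of_connectedSpace (G := G)
  haveI := Groth.Agent.GrpSch.isReduced_of_smooth G
  exact isIntegral_of_irreducibleSpace_of_isReduced _

variable (G : Over (Spec (CommRingCat.of k))) [GrpObj G] [Smooth G.hom] [ConnectedSpace ↥G.left]

/-- a unit with value `1` at the origin is a character -/
theorem character (f : Γ(G.left, ⊤)) (hf : IsUnit f) (he : η[G].left.appTop f = 1) :
    μ[G].left.appTop f = (fst G G).left.appTop f * (snd G G).left.appTop f := by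
  haveI := isIntegral_grp G
  obtain ⟨g, h, -, -, hgh⟩ := exists_unit_mul G G (μ[G].left.appTop f) (hf.map μ[G].left.appTop.hom)
  let s₁ : G ⟶ G ⊗ G := lift (𝟙 G) (toUnit G ≫ η[G])
  let s₂ : G ⟶ G ⊗ G := lift (toUnit G ≫ η[G]) (𝟙 G)
  let ge := η[G].left.appTop g
  let he' := η[G].left.appTop h
  have h11 : s₁ ≫ μ[G] = 𝟙 G := by rw [← Hom.mul_def, ← Hom.one_def, _root_.mul_one]
  have h22 : s₂ ≫ μ[G] = 𝟙 G := by rw [← Hom.mul_def, ← Hom.one_def, _root_.one_mul]
  have e₁ := congrArg s₁.left.appTop hgh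
  have e₂ := congrArg s₂.left.appTop hgh
  simp only [map_mul, pull_comp, h11, h22, s₁, s₂, lift_fst, lift_snd, pull_id] at e₁ e₂
  have e0 : 1 = ge * he' := by
    have h0 := congrArg η[G].left.appTop e₁
    simp only [map_mul, pull_comp, ← Category.assoc] at h0
    rw [toUnit_unique (η[G] ≫ toUnit G) (𝟙 _), Category.id_comp, he] at h0
    exact h0
  have hl : ∀ (x : Γ((𝟙_ (Over (Spec (CommRingCat.of k)))).left, ⊤)) (p : G ⊗ G ⟶ G),
      p.left.appTop ((toUnit G).left.appTop x) = (toUnit (G ⊗ G)).left.appTop x := fun x p => by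
    rw [pull_comp, toUnit_unique (p ≫ toUnit G) (toUnit _)]
  rw [← pull_comp] at e₁ e₂
  refine Eq.trans ?_ (congrArg₂ (· * ·) (congrArg (fst G G).left.appTop e₁.symm) (congrArg (snd G G).left.appTop e₂.symm))
  rw [map_mul, map_mul, hgh, hl, hl]
  have : (toUnit (G ⊗ G)).left.appTop he' * (toUnit (G ⊗ G)).left.appTop ge = 1 := by
    rw [← map_mul, mul_comm, ← e0, map_one]
  calc (fst G G).left.appTop g * (snd G G).left.appTop h
      = (fst G G).left.appTop g * (snd G G).left.appTop h *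
          ((toUnit (G ⊗ G)).left.appTop he' * (toUnit (G ⊗ G)).left.appTop ge) := by rw [this, _root_.mul_one]
    _ = _ := by ring

variable (X : Over (Spec (CommRingCat.of k))) [IsIntegral X.left] [LocallyOfFiniteType X.hom]

/-- units of `G × X` split as a character times a unit of `X` -/
theorem exists_character (f : Γ((G ⊗ X).left, ⊤)) (hf : IsUnit f) :
    ∃ (χ : Γ(G.left, ⊤)) (u : Γ(X.left, ⊤)), IsUnit χ ∧ η[G].left.appTop χ = 1 ∧
      μ[G].left.appTop χ = (fst G G).left.appTop χ * (snd G G).left.appTop χ ∧ IsUnit u ∧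
      f = (fst G X).left.appTop χ * (snd G X).left.appTop u := by
  haveI := isIntegral_grp G
  obtain ⟨g, h, hg, hh, hgh⟩ := exists_unit_mul G X f hf
  obtain ⟨c, hc⟩ := hg.map η[G].left.appTop.hom
  let χ := g * (toUnit G).left.appTop (c⁻¹ : (Γ((𝟙_ (Over (Spec (CommRingCat.of k)))).left, ⊤))ˣ)
  have hχe : η[G].left.appTop χ = 1 := by
    simp only [χ, map_mul, pull_comp]
    rw [toUnit_unique (η[G] ≫ toUnit G) (𝟙 _), pull_id]
    exact (congrArg (· * _) hc.symm).trans c.mul_inv
  refine ⟨χ, h * (toUnit X).left.appTop (c : Γ((𝟙_ (Over (Spec (CommRingCat.of k)))).left, ⊤)),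
    hg.mul (Units.isUnit _ |>.map (toUnit G).left.appTop.hom), hχe,
    character G χ (hg.mul (Units.isUnit _ |>.map (toUnit G).left.appTop.hom)) hχe,
    hh.mul (Units.isUnit _ |>.map (toUnit X).left.appTop.hom), ?_⟩
  simp only [χ, map_mul, pull_comp]
  rw [toUnit_unique (fst G X ≫ toUnit G) (toUnit _), toUnit_unique (snd G X ≫ toUnit X) (toUnit _),
    hgh, _root_.mul_mul_mul_comm, ← map_mul (toUnit (G ⊗ X)).left.appTop.hom]
  erw [Units.inv_mul, map_one, _root_.mul_one]

/-- units are semi-invariant -/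
theorem exists_semiInvariant (a : AlgGrp.Action G X) (f : Γ(X.left, ⊤)) (hf : IsUnit f) :
    ∃! χ : Γ(G.left, ⊤), IsUnit χ ∧ η[G].left.appTop χ = 1 ∧
      μ[G].left.appTop χ = (fst G G).left.appTop χ * (snd G G).left.appTop χ ∧
      a.act.left.appTop f = (fst G X).left.appTop χ * (snd G X).left.appTop f := by
  obtain ⟨χ, u, hχ, hχe, hχm, -, hfu⟩ := exists_character G X (a.act.left.appTop f)
    (hf.map a.act.left.appTop.hom)
  have hu : u = f := by
    have e₂ := congrArg (lift (toUnit X ≫ η[G]) (𝟙 X)).left.appTop hfu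
    have hact : lift (toUnit X ≫ η[G]) (𝟙 X) ≫ a.act = 𝟙 X := by
      have e3 : lift (toUnit X ≫ η[G]) (𝟙 X) = lift (toUnit X) (𝟙 X) ≫ η[G] ▷ X := by
        rw [lift_whiskerRight]
      rw [e3, Category.assoc, a.one_act, leftUnitor_hom, lift_snd]
    simp only [map_mul, pull_comp, hact, lift_fst, lift_snd, pull_id] at e₂
    rw [← pull_comp, hχe, map_one, _root_.one_mul] at e₂
    exact e₂.symm
  subst hu
  refine ⟨χ, ⟨hχ, hχe, hχm, hfu⟩, fun χ' hχ' => ?_⟩
  haveI : JacobsonSpace X.left := LocallyOfFiniteType.jacobsonSpace X.hom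
  obtain ⟨x, -⟩ := GrpSch.exists_ratPoint_mem X isOpen_univ Set.univ_nonempty
  have e₁ := congrArg (lift (𝟙 G) (toUnit G ≫ x)).left.appTop (hfu.symm.trans hχ'.2.2.2)
  simp only [map_mul, pull_comp, lift_fst, lift_snd, pull_id] at e₁
  exact ((hf.map (toUnit G ≫ x).left.appTop.hom).mul_right_cancel e₁).symm

end Groth.Agent.UnitsProd
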