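import Groth.Agent.GeomConn.Algebra
import Mathlib.RingTheory.Valuation.LocalSubring
import Mathlib.FieldTheory.IsAlgClosed.Basic

/-!
# Units of a tensor product of domains over an algebraically closed field
-/

set_option autoImplicit false

universe u

open scoped TensorProduct

namespace Groth.Agent.UnitsProd

variable {k : Type u} [Field k] [IsAlgClosed k]

section Valuation

variable {K : Type u} [Field K] [Algebra k K] (V : ValuationSubring K)
  (hk : ∀ c : k, algebraMap k K c ∈ V)
  (A : Type u) [CommRing A] [Algebra k A] [IsDomain A]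

include hk in
/-- evaluations of a unit of `K ⊗ A` have constant valuation -/
theorem div_mem (f : K ⊗[k] A) (hf : IsUnit f) (φ φ₀ : A →ₐ[k] k) :
    ((Algebra.TensorProduct.lid k K).toAlgHom.comp
        ((Algebra.TensorProduct.map φ (AlgHom.id k K)).comp (Algebra.TensorProduct.comm k K A).toAlgHom)) f /
      ((Algebra.TensorProduct.lid k K).toAlgHom.comp
        ((Algebra.TensorProduct.map φ₀ (AlgHom.id k K)).comp (Algebra.TensorProduct.comm k K A).toAlgHom)) f ∈ V := by
  classical
  letI : Algebra k V := ((algebraMap k K).codRestrict V.toSubring hk).toAlgebra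
  haveI : IsScalarTower k V K := IsScalarTower.of_algebraMap_eq fun _ => rfl
  let val : V →ₐ[k] K := IsScalarTower.toAlgHom k V K
  have hval : Function.Injective val := Subtype.val_injective
  let j : V ⊗[k] A →ₐ[k] K ⊗[k] A := Algebra.TensorProduct.map val (AlgHom.id k A)
  have hj : Function.Injective j :=
    Module.Flat.rTensor_preserves_injective_linearMap val.toLinearMap hval
  let κ := IsLocalRing.ResidueField V
  let red : V ⊗[k] A →ₐ[k] κ ⊗[k] A :=
    Algebra.TensorProduct.map (IsScalarTower.toAlgHom k V κ) (AlgHom.id k A)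
  haveI : IsDomain (κ ⊗[k] A) := Groth.Agent.GeomConn.isDomain_tensorProduct κ A
  let b := Module.Free.chooseBasis k A
  let bK := Algebra.TensorProduct.basis K b
  let bV := Algebra.TensorProduct.basis V b
  let bκ := Algebra.TensorProduct.basis κ b
  have hbj : ∀ x i, bK.repr (j x) i = val (bV.repr x i) := by
    intro x i
    induction x using TensorProduct.induction_on with
    | zero => simp
    | add u v hu hv => simp [hu, hv]
    | tmul a q => simp [j, bK, bV, map_smul]
  have hbred : ∀ x i, bκ.repr (red x) i = IsLocalRing.residue V (bV.repr x i) := by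
    intro x i
    induction x using TensorProduct.induction_on with
    | zero => simp
    | add u v hu hv => simp [hu, hv]
    | tmul a q =>
      simp [red, bκ, bV, map_smul, IsLocalRing.ResidueField.algebraMap_eq]
      rfl
  -- every nonzero element is a scalar times a primitive one
  have hprim : ∀ F : K ⊗[k] A, F ≠ 0 → ∃ (c : K) (F₀ : V ⊗[k] A), c ≠ 0 ∧ red F₀ ≠ 0 ∧
      F = c • j F₀ := by
    intro F hF
    let s := (bK.repr F).support
    have hs : s.Nonempty := by
      rw [Finsupp.support_nonempty_iff]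
      exact fun h => hF (bK.repr.injective (h.trans (map_zero _).symm))
    obtain ⟨i₀, hi₀, hmax⟩ := s.exists_max_image (fun i => V.valuation (bK.repr F i)) hs
    set c := bK.repr F i₀ with hc
    have hc0 : c ≠ 0 := Finsupp.mem_support_iff.mp hi₀
    have hv : ∀ i, bK.repr F i / c ∈ V := by
      intro i
      by_cases hi : i ∈ s
      · rw [← V.valuation_le_one_iff, map_div₀]
        exact (div_le_one₀ ((V.valuation.pos_iff).mpr hc0)).mpr (hmax i hi)
      · rw [Finsupp.notMem_support_iff.mp hi, zero_div]; exact zero_mem _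
    let co : Module.Free.ChooseBasisIndex k A →₀ V := Finsupp.onFinset s (fun i => ⟨_, hv i⟩) fun i hi => by
      by_contra h
      exact hi (Subtype.ext (by simp [Finsupp.notMem_support_iff.mp h]))
    refine ⟨c, bV.repr.symm co, hc0, fun h => ?_, ?_⟩
    · have := hbred (bV.repr.symm co) i₀
      rw [h, map_zero, Finsupp.zero_apply, LinearEquiv.apply_symm_apply] at this
      have h1 : co i₀ = 1 := Subtype.ext (by simp [co, hc, div_self (hc ▸ hc0)])
      rw [h1, map_one] at this
      exact zero_ne_one this
    · refine bK.repr.injective ?_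
      ext i
      rw [map_smul, Finsupp.smul_apply, hbj, LinearEquiv.apply_symm_apply, smul_eq_mul]
      change _ = c * (bK.repr F i / c)
      field_simp
  haveI : Nontrivial (K ⊗[k] A) :=
    haveI := Groth.Agent.GeomConn.isDomain_tensorProduct (k := k) K A
    inferInstance
  obtain ⟨g, hg⟩ := hf.exists_right_inv
  obtain ⟨c, F, hc, hF, hfF⟩ := hprim f fun h => by simp [h] at hg
  obtain ⟨d, G, hd, hG, hgG⟩ := hprim g fun h => by simp [h] at hg
  have hprod : (c * d) • j (F * G) = 1 := by
    rw [map_mul, ← smul_mul_smul_comm, ← hfF, ← hgG, hg]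
  have hred0 : red (F * G) ≠ 0 := by rw [map_mul]; exact mul_ne_zero hF hG
  -- `F` is a unit
  have hFu : IsUnit F := by
    rcases V.mem_or_inv_mem (c * d) with h | h
    · refine IsUnit.of_mul_eq_one ((⟨c * d, h⟩ : V) • G) (hj ?_)
      rw [map_one, mul_smul_comm, ← hprod, Algebra.smul_def]
      rw [map_mul]
      rw [Algebra.smul_def (c * d)]
      congr 1
    · have h1 : F * G = algebraMap V (V ⊗[k] A) ⟨_, h⟩ := hj (by
        have h2 : j (F * G) = (c * d)⁻¹ • (1 : K ⊗[k] A) := by
          rw [← hprod, inv_smul_smul₀ (mul_ne_zero hc hd)]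
        rw [h2, Algebra.smul_def, mul_one]
        rfl)
      have h2 : IsUnit (⟨_, h⟩ : V) := by
        by_contra hn
        apply hred0
        rw [h1]
        change (IsLocalRing.residue V ⟨_, h⟩) ⊗ₜ[k] (AlgHom.id k A 1) = 0
        rw [IsLocalRing.residue_eq_zero_iff _ |>.mpr hn, TensorProduct.zero_tmul]
      exact (IsUnit.mul_iff.mp (h1 ▸ h2.map _)).1
  let evK : (A →ₐ[k] k) → (K ⊗[k] A →ₐ[k] K) := fun ψ =>
    (Algebra.TensorProduct.lid k K).toAlgHom.comp
      ((Algebra.TensorProduct.map ψ (AlgHom.id k K)).comp (Algebra.TensorProduct.comm k K A).toAlgHom)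
  let evV : (A →ₐ[k] k) → (V ⊗[k] A →ₐ[k] V) := fun ψ =>
    (Algebra.TensorProduct.lid k V).toAlgHom.comp
      ((Algebra.TensorProduct.map ψ (AlgHom.id k V)).comp (Algebra.TensorProduct.comm k V A).toAlgHom)
  have hev : ∀ ψ (x : V ⊗[k] A), evK ψ (j x) = val (evV ψ x) := by
    intro ψ x
    induction x using TensorProduct.induction_on with
    | zero => simp
    | add u v hu hv => simp [hu, hv]
    | tmul a q => simp [evK, evV, j, map_smul]
  have hsc : ∀ ψ (x : K ⊗[k] A), evK ψ (c • x) = c * evK ψ x := by
    intro ψ x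
    induction x using TensorProduct.induction_on with
    | zero => simp
    | add u v hu hv => simp only [smul_add, map_add, hu, hv, mul_add]
    | tmul a q => simp [evK, TensorProduct.smul_tmul', mul_comm, mul_left_comm]
  change evK φ f / evK φ₀ f ∈ V
  rw [hfF, hsc, hsc, hev, hev, mul_div_mul_left _ _ hc]
  obtain ⟨u, hu⟩ := hFu.map (evV φ₀)
  have : val (evV φ F) / val (evV φ₀ F) = val (evV φ F * (u⁻¹ : Vˣ)) := by
    have h0 : val (evV φ₀ F) ≠ 0 := fun h => (hFu.map (evV φ₀)).ne_zero (hval (h.trans (map_zero _).symm))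
    rw [div_eq_iff h0, ← map_mul, mul_assoc, ← hu, Units.inv_mul, mul_one]
  rw [this]
  exact (evV φ F * ((u⁻¹ : Vˣ) : V)).2

end Valuation

variable (B A : Type u) [CommRing B] [Algebra k B] [IsDomain B] [CommRing A] [Algebra k A] [IsDomain A]

/-- evaluation in the second factor -/
noncomputable def evR (φ : A →ₐ[k] k) : B ⊗[k] A →ₐ[k] B :=
  (Algebra.TensorProduct.lid k B).toAlgHom.comp
    ((Algebra.TensorProduct.map φ (AlgHom.id k B)).comp (Algebra.TensorProduct.comm k B A).toAlgHom)

omit [IsAlgClosed k] [IsDomain B] [IsDomain A] in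
@[simp] lemma evR_tmul (φ : A →ₐ[k] k) (b : B) (a : A) : evR B A φ (b ⊗ₜ a) = φ a • b := by
  simp [evR]

/-- evaluations of a unit at two points differ by a constant -/
theorem exists_const (f : B ⊗[k] A) (hf : IsUnit f) (φ φ₀ : A →ₐ[k] k) :
    ∃ c : k, evR B A φ f = c • evR B A φ₀ f := by
  let K := FractionRing B
  let f' := Algebra.TensorProduct.map (IsScalarTower.toAlgHom k B K) (AlgHom.id k A) f
  have hev : ∀ ψ (x : B ⊗[k] A), evR K A ψ (Algebra.TensorProduct.map (IsScalarTower.toAlgHom k B K) (AlgHom.id k A) x) =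
      algebraMap B K (evR B A ψ x) := by
    intro ψ x
    induction x using TensorProduct.induction_on with
    | zero => simp
    | add u v hu hv => simp [hu, hv]
    | tmul a q => simp [Algebra.smul_def, IsScalarTower.algebraMap_apply k B K]
  set r := evR K A φ f' / evR K A φ₀ f' with hr
  have hmem : r ∈ (⨅ V : {V : ValuationSubring K //
      Set.range (algebraMap k K) ⊆ V.toSubring}, V.1.toSubring) := by
    rw [Subring.mem_iInf]
    exact fun V => div_mem V.1 (fun c => V.2 ⟨c, rfl⟩) A f' (hf.map _) φ φ₀
  rw [iInf_valuationSubring_superset] at hmem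
  have hint : IsIntegral k r := by
    obtain ⟨p, hp, hp0⟩ := hmem
    have hcl : Subring.closure (Set.range (algebraMap k K)) = (algebraMap k K).range := by
      rw [← RingHom.coe_range, Subring.closure_eq]
    let e : k →+* Subring.closure (Set.range (algebraMap k K)) :=
      (algebraMap k K).codRestrict _ fun c => Subring.subset_closure ⟨c, rfl⟩
    have hesurj : Function.Surjective e := fun x => by
      obtain ⟨c, hc⟩ := hcl.le x.2
      exact ⟨c, Subtype.ext hc⟩
    obtain ⟨q, hq, -, hqm⟩ := Polynomial.lifts_and_degree_eq_and_monic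
      (Polynomial.mem_lifts p |>.mpr (Polynomial.map_surjective e hesurj p)) hp
    refine ⟨q, hqm, ?_⟩
    rw [← hq, Polynomial.eval₂_map] at hp0
    exact hp0
  haveI : Algebra.IsIntegral k (Algebra.adjoin k {r}) :=
    Algebra.IsIntegral.adjoin fun x hx => by rw [Set.mem_singleton_iff.mp hx]; exact hint
  obtain ⟨c, hc⟩ := (IsAlgClosed.algebraMap_bijective_of_isIntegral
    (k := k) (K := Algebra.adjoin k {r})).2 ⟨r, Algebra.subset_adjoin rfl⟩
  refine ⟨c, IsFractionRing.injective B K ?_⟩
  rw [← hev, Algebra.smul_def, map_mul, ← hev, ← IsScalarTower.algebraMap_apply]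
  have h2 : algebraMap k K c = r := congrArg Subtype.val hc
  rw [h2, hr]
  have h0 : evR K A φ₀ f' ≠ 0 := ((hf.map _).map (evR K A φ₀)).ne_zero
  exact (div_mul_cancel₀ _ h0).symm

/-- a unit is the product of its two restrictions to slices -/
theorem eq_mul_slices [Algebra.FiniteType k A] (f : B ⊗[k] A) (hf : IsUnit f) (φ₀ : A →ₐ[k] k)
    (ψ₀ : B →ₐ[k] k) :
    ψ₀ (evR B A φ₀ f) • f =
      (evR B A φ₀ f ⊗ₜ[k] (1 : A)) *
        (1 ⊗ₜ[k] ((Algebra.TensorProduct.lid k A).toAlgHom.comp
          (Algebra.TensorProduct.map ψ₀ (AlgHom.id k A))) f) := by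
  classical
  let evL : B ⊗[k] A →ₐ[k] A :=
    (Algebra.TensorProduct.lid k A).toAlgHom.comp (Algebra.TensorProduct.map ψ₀ (AlgHom.id k A))
  rw [← sub_eq_zero]
  set z := ψ₀ (evR B A φ₀ f) • f - (evR B A φ₀ f ⊗ₜ[k] (1 : A)) * (1 ⊗ₜ[k] evL f)
  have hsw : ∀ (φ : A →ₐ[k] k) (x : B ⊗[k] A), φ (evL x) = ψ₀ (evR B A φ x) := by
    intro φ x
    induction x using TensorProduct.induction_on with
    | zero => simp
    | add u v hu hv => simp [hu, hv]
    | tmul a q => simp [evL, mul_comm]
  have hz : ∀ φ : A →ₐ[k] k, evR B A φ z = 0 := by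
    intro φ
    obtain ⟨c, hc⟩ := exists_const B A f hf φ φ₀
    simp only [z, map_sub, map_smul, map_mul, evR_tmul, map_one, one_smul]
    rw [hsw, hc, map_smul, smul_eq_mul, smul_smul, Algebra.mul_smul_comm, mul_one, mul_comm c, sub_self]
  let b := Module.Free.chooseBasis k B
  let c := b.baseChange A
  let z' := Algebra.TensorProduct.comm k B A z
  have : IsJacobsonRing A := isJacobsonRing_of_finiteType (A := k)
  have hcoef : ∀ i, c.repr z' i = 0 := by
    intro i
    have hj : (⊥ : Ideal A).jacobson = ⊥ :=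
      IsJacobsonRing.out inferInstance (Ideal.bot_prime.isRadical)
    rw [← Ideal.mem_bot, ← hj]
    refine Submodule.mem_sInf.2 fun m hm => ?_
    have := hm.2
    obtain ⟨π, rfl⟩ := Groth.Agent.GeomConn.exists_algHom_of_isMaximal (k := k) m
    have h2 : ∀ x : B ⊗[k] A, b.repr (evR B A π x) i =
        π (c.repr (Algebra.TensorProduct.comm k B A x) i) := by
      intro x
      induction x using TensorProduct.induction_on with
      | zero => simp
      | add u v hu hv => simp [hu, hv]
      | tmul a q => simp [c, mul_comm]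
    change π (c.repr z' i) = 0
    rw [← h2, hz, map_zero, Finsupp.zero_apply]
  have : z' = 0 := c.repr.injective (by ext i; simp [hcoef i])
  exact (Algebra.TensorProduct.comm k B A).injective (this.trans (map_zero _).symm)

end Groth.Agent.UnitsProd
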